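import Mathlib

/-!
# Counting pairs of a binary quadratic form and a binary form by their resultant
-/

set_option autoImplicit false
noncomputable section

universe u

open Polynomial

namespace Groth.Agent.ResCount

variable {F : Type u} [Field F]

/-- The polynomial with given coefficients. -/
def poly {m : ℕ} (v : Fin m → F) : F[X] := ∑ i : Fin m, C (v i) * X ^ (i : ℕ)

theorem poly_coeff {m : ℕ} (v : Fin m → F) (i : Fin m) : (poly v).coeff i = v i := by
  simp [poly, Polynomial.finsetSum_coeff, coeff_X_pow, Fin.val_inj]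

theorem poly_natDegree {m : ℕ} (v : Fin (m + 1) → F) : (poly v).natDegree ≤ m :=
  natDegree_sum_le_of_forall_le _ _ fun i _ => (natDegree_C_mul_X_pow_le _ _).trans (Nat.le_of_lt_succ i.2)

theorem poly_two (r : Fin 2 → F) : poly r = C (r 1) * X + C (r 0) := by
  simp [poly, Fin.sum_univ_two, add_comm]

theorem poly_three (f : Fin 3 → F) : poly f = C (f 2) * X ^ 2 + C (f 1) * X + C (f 0) := by
  simp [poly, Fin.sum_univ_three]; ring

/-- The resultant of a quadratic and a linear form. -/
def res1 (f : Fin 3 → F) (r : Fin 2 → F) : F := f 2 * r 0 ^ 2 - f 1 * r 0 * r 1 + f 0 * r 1 ^ 2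

theorem resultant_two_one (f : Fin 3 → F) (r : Fin 2 → F) : resultant (poly f) (poly r) 2 1 = res1 f r := by
  have hf : (poly f).natDegree ≤ 2 := poly_natDegree f
  by_cases h : r 1 = 0
  · rw [poly_two, h, map_zero, zero_mul, zero_add, resultant_C_right]
    have := poly_coeff f 2
    simp at this
    simp [res1, h, this]
  · have : poly r = C (r 1) * (X + C (r 0 / r 1)) := by
      rw [poly_two, mul_add, ← map_mul, mul_div_cancel₀ _ h]
    rw [this, resultant_C_mul_right, resultant_X_add_C_right _ _ _ hf, poly_three]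
    simp only [eval_add, eval_mul, eval_C, eval_pow, eval_X, res1]
    field_simp
    ring

/-- The reduction from degree `n` to degree `1`. -/
theorem reduction (n : ℕ) (hn : 2 ≤ n) (f : Fin 3 → F) :
    ∃ (L : (Fin (n + 1) → F) →ₗ[F] (Fin 2 → F)) (u : F), Function.Surjective L ∧ u ≠ 0 ∧
      ∀ g, resultant (poly f) (poly g) 2 n = u ^ (n - 1) * res1 f (L g) := by
  classical
  obtain ⟨k, rfl⟩ : ∃ k, n = k + 1 := ⟨n - 1, by omega⟩
  rw [Nat.add_sub_cancel]
  let Pl : (Fin (k + 1 + 1) → F) →ₗ[F] F[X] :=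
    { toFun := poly
      map_add' := fun a b => by simp [poly, map_add, add_mul, Finset.sum_add_distrib]
      map_smul' := fun r a => by simp [poly, Finset.smul_sum, smul_eq_C_mul, mul_assoc] }
  have hPl : ∀ g, Pl g = poly g := fun _ => rfl
  have hfd : (poly f).natDegree ≤ 2 := poly_natDegree f
  have h2 : (poly f).coeff 2 = f 2 := poly_coeff f 2
  have hlast : ∀ g : Fin (k + 1 + 1) → F, (poly g).coeff (k + 1) = g (Fin.last _) := fun g => poly_coeff g (Fin.last _)
  by_cases ha : f 2 = 0
  swap
  · let f' : F[X] := C (f 2)⁻¹ * poly f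
    have hdeg : (poly f).natDegree = 2 := le_antisymm hfd (le_natDegree_of_ne_zero (by rw [h2]; exact ha))
    have hlc : (poly f).leadingCoeff = f 2 := by rw [leadingCoeff, hdeg, h2]
    have hm : f'.Monic := by
      rw [Monic, leadingCoeff_mul, leadingCoeff_C, hlc, inv_mul_cancel₀ ha]
    have hd' : f'.natDegree = 2 := by rw [natDegree_C_mul (inv_ne_zero ha), hdeg]
    let c01 : F[X] →ₗ[F] (Fin 2 → F) := LinearMap.pi fun i => lcoeff F (i : ℕ)
    let L : (Fin (k + 1 + 1) → F) →ₗ[F] (Fin 2 → F) := c01.comp ((modByMonicHom f').comp Pl)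
    have hr : ∀ g, poly g %ₘ f' = poly (L g) := fun g => by
      have hlt : (poly g %ₘ f').natDegree < 2 := hd' ▸ natDegree_modByMonic_lt _ hm (fun h => by rw [h] at hd'; simp at hd')
      conv_lhs => rw [(poly g %ₘ f').as_sum_range' 2 hlt]
      rw [Finset.sum_range_succ, Finset.sum_range_one]
      conv_rhs => rw [poly, Fin.sum_univ_two]
      simp [L, c01, hPl, modByMonicHom, lcoeff_apply, ← C_mul_X_pow_eq_monomial]
    refine ⟨L, f 2, fun r => ?_, ha, fun g => ?_⟩
    · let g : Fin (k + 1 + 1) → F := fun i => if h : (i : ℕ) < 2 then r ⟨i, h⟩ else 0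
      refine ⟨g, ?_⟩
      have hg : poly g = poly r := by
        ext j
        by_cases hj : j < k + 1 + 1
        · rw [show j = ((⟨j, hj⟩ : Fin (k + 1 + 1)) : ℕ) from rfl, poly_coeff]
          simp only [g]
          by_cases hj2 : j < 2
          · rw [dif_pos hj2, ← poly_coeff r ⟨j, hj2⟩]
          · rw [dif_neg hj2, coeff_eq_zero_of_natDegree_lt (by have := poly_natDegree r; omega)]
        · rw [coeff_eq_zero_of_natDegree_lt (by have := poly_natDegree g; omega),
            coeff_eq_zero_of_natDegree_lt (by have := poly_natDegree r; omega)]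
      have hg' : poly g %ₘ f' = poly r := by
        rw [(modByMonic_eq_self_iff hm).2]
        · exact hg
        · rw [hg, degree_eq_natDegree hm.ne_zero, hd']
          exact degree_le_natDegree.trans_lt (by exact_mod_cast Nat.lt_succ_of_le (poly_natDegree r))
      funext i
      have := congrArg (fun p => coeff p (i : ℕ)) ((hr g).symm.trans hg')
      simpa [poly_coeff] using this
    · let p : F[X] := C (f 2)⁻¹ * (poly g /ₘ f')
      have hg : poly g = poly (L g) + poly f * p := by
        conv_lhs => rw [← modByMonic_add_div (poly g) f', hr]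
        simp only [p, f']; ring
      have hp : p.natDegree + 2 ≤ k + 1 := by
        rw [natDegree_C_mul (inv_ne_zero ha), natDegree_divByMonic _ hm, hd']
        have := poly_natDegree g
        omega
      have h3 : ∀ j, j = 1 + k → resultant (poly f) (poly (L g)) 2 j = f 2 ^ k * res1 f (L g) := by
        intro j hj
        rw [hj, resultant_add_right_deg _ _ _ _ _ (poly_natDegree (L g)), h2, resultant_two_one]
      rw [hg, resultant_add_mul_right _ _ _ _ _ hp hfd]
      exact h3 _ (by omega)
  have hf1 : (poly f).natDegree ≤ 1 := by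
    rw [poly_three, ha, map_zero, zero_mul, zero_add]
    exact natDegree_linear_le
  by_cases hb : f 1 = 0
  · have hC : poly f = C (f 0) := by rw [poly_three, ha, hb]; simp
    let L : (Fin (k + 1 + 1) → F) →ₗ[F] (Fin 2 → F) :=
      LinearMap.pi fun i => if i = 0 then LinearMap.proj 0 else LinearMap.proj (Fin.last _)
    have hL : ∀ g, L g 0 = g 0 ∧ L g 1 = g (Fin.last _) := fun g => ⟨by simp [L], by simp [L]⟩
    refine ⟨L, if f 0 = 0 then 1 else f 0, fun r => ?_, by split_ifs with h <;> [exact one_ne_zero; exact h], fun g => ?_⟩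
    · refine ⟨fun i => if i = 0 then r 0 else r 1, funext fun i => ?_⟩
      fin_cases i
      · exact (hL _).1.trans (if_pos rfl)
      · exact (hL _).2.trans (if_neg (Fin.last_pos.ne'))
    · rw [hC, resultant_C_left, hlast, res1, ha, hb, (hL g).2]
      have hs : ((-1 : F) ^ (2 * (k + 1))) = 1 := by rw [pow_mul, neg_one_sq, one_pow]
      rw [hs]
      split_ifs with h
      · rw [h]; simp
      · rw [pow_succ]; ring
  · set x₀ := -(f 0 / f 1) with hx₀
    have hX : poly f = C (f 1) * (X + C (f 0 / f 1)) := by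
      rw [poly_three, ha, mul_add, ← map_mul, mul_div_cancel₀ _ hb]; simp
    let L : (Fin (k + 1 + 1) → F) →ₗ[F] (Fin 2 → F) := LinearMap.pi fun i =>
      if i = 0 then (leval x₀).comp Pl - x₀ • LinearMap.proj (Fin.last _) else LinearMap.proj (Fin.last _)
    have hL : ∀ g, L g 0 = (poly g).eval x₀ - x₀ * g (Fin.last _) ∧ L g 1 = g (Fin.last _) := fun g =>
      ⟨by simp [L, hPl, leval_apply], by simp [L]⟩
    refine ⟨L, -f 1, fun r => ?_, neg_ne_zero.2 hb, fun g => ?_⟩
    · let g : Fin (k + 1 + 1) → F := fun i =>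
        (if i = 0 then r 0 + x₀ * r 1 - r 1 * x₀ ^ (k + 1) else 0) + (if i = Fin.last _ then r 1 else 0)
      have h0 : (0 : Fin (k + 1 + 1)) ≠ Fin.last _ := Fin.last_pos.ne
      have hgl : g (Fin.last _) = r 1 := by simp [g, h0.symm]
      have hev : (poly g).eval x₀ = r 0 + x₀ * r 1 := by
        simp [poly, g, eval_finsetSum, add_mul, Finset.sum_add_distrib]
      refine ⟨g, funext fun i => ?_⟩
      fin_cases i
      · refine (hL g).1.trans ?_
        rw [hev, hgl]; simp
      · exact (hL g).2.trans hgl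
    · have h1 : resultant (poly f) (poly g) 1 (k + 1) = f 1 ^ (k + 1) * (poly g).eval x₀ := by
        rw [hX, resultant_C_mul_left, resultant_X_add_C_left _ _ _ (poly_natDegree g), hx₀]
      refine (resultant_succ_left_deg (poly f) (poly g) 1 (k + 1) hf1).trans ?_
      rw [h1, hlast, res1, ha, (hL g).1, (hL g).2]
      have hf0 : f 0 = -(f 1 * x₀) := by rw [hx₀]; field_simp
      rw [hf0, neg_pow (f 1) k, pow_succ (-1 : F), pow_succ (f 1)]
      ring

theorem card_fibres {V W : Type u} [AddCommGroup V] [Module F V] [AddCommGroup W] [Module F W]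
    (L : V →ₗ[F] W) (hL : Function.Surjective L) (Q : W → Prop) :
    Nat.card {v : V // Q (L v)} = Nat.card (LinearMap.ker L) * Nat.card {w : W // Q w} := by
  obtain ⟨s, hs⟩ := L.exists_rightInverse_of_surjective (LinearMap.range_eq_top.2 hL)
  have hs' : ∀ w, L (s w) = w := fun w => LinearMap.congr_fun hs w
  rw [← Nat.card_prod]
  refine Nat.card_congr
    { toFun := fun v => (⟨v.1 - s (L v.1), by rw [LinearMap.mem_ker, map_sub, hs', sub_self]⟩, ⟨L v.1, v.2⟩)
      invFun := fun x => ⟨x.1.1 + s x.2.1, by rw [map_add, hs', show L x.1.1 = 0 from x.1.2, zero_add]; exact x.2.2⟩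
      left_inv := fun v => Subtype.ext (by simp)
      right_inv := fun x => ?_ }
  have h0 : L x.1.1 = 0 := x.1.2
  ext <;> simp [hs', h0]

theorem card_ker [Finite F] {m m' : ℕ} (L : (Fin m → F) →ₗ[F] (Fin m' → F)) (hL : Function.Surjective L) :
    Nat.card (LinearMap.ker L) * Nat.card F ^ m' = Nat.card F ^ m := by
  have h := card_fibres L hL (fun _ => True)
  rw [Nat.card_congr (Equiv.subtypeUnivEquiv fun _ => trivial), Nat.card_congr (Equiv.subtypeUnivEquiv fun _ => trivial),
    Nat.card_fun, Nat.card_fun] at h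
  simpa using h.symm

theorem count [Finite F] (n : ℕ) (hn : 2 ≤ n) (P : F → Prop) (hP0 : ¬ P 0)
    (hsc : ∀ u : F, u ≠ 0 → ∃ t : F, t ≠ 0 ∧ ∀ x : F, P (u ^ (n - 1) * x) ↔ P (t ^ 2 * x)) :
    Nat.card {p : (Fin 3 → F) × (Fin (n + 1) → F) // P (resultant (poly p.1) (poly p.2) 2 n)} =
      Nat.card F ^ (n - 1) * ((Nat.card F ^ 2 - 1) * (Nat.card F ^ 2 * Nat.card {x : F // P x})) := by
  classical
  haveI := Fintype.ofFinite F
  have hq : 0 < Nat.card F := Nat.card_pos
  have hone : ∀ f : Fin 3 → F, Nat.card {g : Fin (n + 1) → F // P (resultant (poly f) (poly g) 2 n)} =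
      Nat.card F ^ (n - 1) * Nat.card {r : Fin 2 → F // P (res1 f r)} := by
    intro f
    obtain ⟨L, u, hL, hu, hres⟩ := reduction n hn f
    obtain ⟨t, ht, htP⟩ := hsc u hu
    simp only [hres]
    rw [card_fibres L hL (fun r => P (u ^ (n - 1) * res1 f r))]
    have hk := card_ker L hL
    have hk' : Nat.card (LinearMap.ker L) * Nat.card F ^ 2 = Nat.card F ^ (n - 1) * Nat.card F ^ 2 :=
      hk.trans (by rw [← pow_add]; congr 1; omega)
    rw [Nat.eq_of_mul_eq_mul_right (by positivity) hk']
    refine congrArg _ (Nat.card_congr (Equiv.subtypeEquiv (LinearEquiv.smulOfNeZero F (Fin 2 → F) t ht).toEquiv fun r => ?_))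
    show P (u ^ (n - 1) * res1 f r) ↔ P (res1 f (t • r))
    rw [htP]
    have : res1 f (t • r) = t ^ 2 * res1 f r := by simp [res1]; ring
    rw [this]
  let A : Set ((Fin 3 → F) × (Fin 2 → F)) := {p | P (res1 p.1 p.2)}
  have hA : Nat.card A = (Nat.card F ^ 2 - 1) * (Nat.card F ^ 2 * Nat.card {x : F // P x}) := by
    have e : A ≃ Σ r : Fin 2 → F, {f : Fin 3 → F // P (res1 f r)} :=
      ((Equiv.prodComm _ _).subtypeEquiv (p := fun p => P (res1 p.1 p.2)) (q := fun p => P (res1 p.2 p.1))
        (fun _ => Iff.rfl)).trans (Equiv.subtypeProdEquivSigmaSubtype fun r f => P (res1 f r))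
    rw [Nat.card_congr e, Nat.card_sigma, Fintype.sum_eq_add_sum_compl 0]
    have hz : Nat.card {f : Fin 3 → F // P (res1 f 0)} = 0 := by
      haveI : IsEmpty {f : Fin 3 → F // P (res1 f 0)} := ⟨fun x => hP0 (by simpa [res1] using x.2)⟩
      simp
    rw [hz, zero_add]
    have hnz : ∀ r ∈ ({0} : Finset (Fin 2 → F))ᶜ, Nat.card {f : Fin 3 → F // P (res1 f r)} =
        Nat.card F ^ 2 * Nat.card {x : F // P x} := by
      intro r hr
      rw [Finset.mem_compl, Finset.mem_singleton] at hr
      let ℓ : (Fin 3 → F) →ₗ[F] (Fin 1 → F) :=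
        LinearMap.pi fun _ => (r 0 ^ 2) • LinearMap.proj 2 - (r 0 * r 1) • LinearMap.proj 1 + (r 1 ^ 2) • LinearMap.proj 0
      have hℓ : ∀ f, ℓ f 0 = res1 f r := fun f => by simp [ℓ, res1]; ring
      have hsurj : Function.Surjective ℓ := by
        intro y
        by_cases h0 : r 0 = 0
        · have h1 : r 1 ≠ 0 := fun h1 => hr (funext fun i => by fin_cases i <;> simp [h0, h1])
          refine ⟨![y 0 / r 1 ^ 2, 0, 0], funext fun i => ?_⟩
          rw [Subsingleton.elim i 0, hℓ]
          simp [res1, h0]; field_simp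
        · refine ⟨![0, 0, y 0 / r 0 ^ 2], funext fun i => ?_⟩
          rw [Subsingleton.elim i 0, hℓ]
          simp [res1]; field_simp
      have hc := card_fibres ℓ hsurj (fun y => P (y 0))
      simp only [hℓ] at hc
      have hk := card_ker ℓ hsurj
      rw [pow_one, pow_succ] at hk
      rw [hc, Nat.eq_of_mul_eq_mul_right hq hk]
      exact congrArg _ (Nat.card_congr ((Equiv.funUnique (Fin 1) F).subtypeEquiv fun y => by rfl))
    rw [Finset.sum_congr rfl hnz, Finset.sum_const, smul_eq_mul, Finset.card_compl, Finset.card_singleton,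
      Fintype.card_fun, Fintype.card_fin, Fintype.card_eq_nat_card]
  rw [Nat.card_congr (Equiv.subtypeProdEquivSigmaSubtype fun f g => P (resultant (poly f) (poly g) 2 n)), Nat.card_sigma,
    Finset.sum_congr rfl fun f _ => hone f, ← Finset.mul_sum, ← hA, ← Nat.card_sigma]
  exact congrArg _ (Nat.card_congr (Equiv.subtypeProdEquivSigmaSubtype fun f r => P (res1 f r)).symm)

end Groth.Agent.ResCount
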